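import Mathlib
import Cfsg.Agent.SteinbergSL.Pres

/-!
# Short presentations of SL3: from few relations to the Steinberg relations

An abstract group with elements `h, w, c` behaving like the torus, a Weyl element and the
coordinate 3-cycle, and one parametrised root group, is the image of `SL(3, F)`.
-/

set_option autoImplicit false

namespace Cfsg.Agent.SL3Pres

open scoped commutatorElement MatrixGroups

variable {P : Type*} [Group P] {F : Type*} [Field F]

/-- `z` acts on the parametrised subgroup `X` by the scalar `r`. -/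
def Act (z : P) (X : F → P) (r : Fˣ) : Prop := ∀ a, z * X a * z⁻¹ = X ((r : F) * a)

namespace Act

variable {z z' : P} {X : F → P} {r r' : Fˣ}

theorem mul (hz : Act z X r) (hz' : Act z' X r') : Act (z * z') X (r * r') := by
  intro a
  calc z * z' * X a * (z * z')⁻¹ = z * (z' * X a * z'⁻¹) * z⁻¹ := by group
    _ = _ := by rw [hz', hz, Units.val_mul, mul_assoc]

theorem inv (hz : Act z X r) : Act z⁻¹ X r⁻¹ := by
  intro a
  have := hz (((r⁻¹ : Fˣ) : F) * a)
  rw [← mul_assoc, ← Units.val_mul, mul_inv_cancel, Units.val_one, one_mul] at this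
  rw [← this]; group

theorem one : Act (1 : P) X 1 := fun a => by simp

theorem pow (hz : Act z X r) : ∀ n : ℕ, Act (z ^ n) X (r ^ n)
  | 0 => by simpa using one
  | n + 1 => by rw [pow_succ, pow_succ]; exact (pow hz n).mul hz

theorem zpow (hz : Act z X r) : ∀ n : ℤ, Act (z ^ n) X (r ^ n)
  | .ofNat n => by simpa using hz.pow n
  | .negSucc n => by simpa using (hz.pow (n + 1)).inv

theorem conj (g : P) (hg : g⁻¹ * z * g = z') (s : F) (hz : Act z' X r) :
    Act z (fun a => g * X (s * a) * g⁻¹) r := by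
  intro a
  subst hg
  have := hz (s * a)
  calc z * (g * X (s * a) * g⁻¹) * z⁻¹
      = g * (g⁻¹ * z * g * X (s * a) * (g⁻¹ * z * g)⁻¹) * g⁻¹ := by group
    _ = _ := by rw [this, mul_left_comm]

end Act

/-- The relations among `h`, `w`, `c`. -/
structure Tor (h w c : P) (e : ℕ) : Prop where
  hk : Commute h (c * h * c⁻¹)
  wh : w * h * w⁻¹ = h⁻¹
  ww : w * w = h ^ e
  wc : w * c * w⁻¹ = c⁻¹ * (c * h * c⁻¹) ^ e
  cc : c ^ 3 = 1
  hkk : h * (c * h * c⁻¹) * (c * (c * h * c⁻¹) * c⁻¹) = 1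

namespace Tor

variable {h w c : P} {e : ℕ} (T : Tor h w c e)

include T

theorem c_inv : c⁻¹ = c * c := by
  have := T.cc
  rw [pow_succ, pow_two] at this
  exact inv_eq_of_mul_eq_one_left this

theorem k'_eq : c * (c * h * c⁻¹) * c⁻¹ = (h * (c * h * c⁻¹))⁻¹ :=
  eq_inv_of_mul_eq_one_right T.hkk

theorem cinv_h : c⁻¹ * h * c = (h * (c * h * c⁻¹))⁻¹ := by
  rw [← T.k'_eq]
  have e1 : c * (c * h * c⁻¹) * c⁻¹ = (c * c) * h * (c * c)⁻¹ := by group
  rw [e1, ← T.c_inv, inv_inv]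

theorem cinv_k : c⁻¹ * (c * h * c⁻¹) * c = h := by group

theorem w_k : w * (c * h * c⁻¹) * w⁻¹ = h * (c * h * c⁻¹) := by
  calc w * (c * h * c⁻¹) * w⁻¹ = (w * c * w⁻¹) * (w * h * w⁻¹) * (w * c * w⁻¹)⁻¹ := by group
    _ = c⁻¹ * ((c * h * c⁻¹) ^ e * h⁻¹ * ((c * h * c⁻¹) ^ e)⁻¹) * c := by rw [T.wc, T.wh]; group
    _ = c⁻¹ * h⁻¹ * c := by
        rw [((T.hk.symm.pow_left e).inv_right).eq]; group
    _ = (c⁻¹ * h * c)⁻¹ := by group
    _ = _ := by rw [T.cinv_h, inv_inv]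

theorem winv_h : w⁻¹ * h * w = h⁻¹ := by
  rw [← inv_inj, inv_inv]
  calc (w⁻¹ * h * w)⁻¹ = w⁻¹ * h⁻¹ * w := by group
    _ = w⁻¹ * (w * h * w⁻¹) * w := by rw [T.wh]
    _ = h := by group

theorem winv_k : w⁻¹ * (c * h * c⁻¹) * w = h * (c * h * c⁻¹) := by
  have h1 : w⁻¹ * (h * (c * h * c⁻¹)) * w = c * h * c⁻¹ := by rw [← T.w_k]; group
  have h2 : w⁻¹ * (h * (c * h * c⁻¹)) * w = h⁻¹ * (w⁻¹ * (c * h * c⁻¹) * w) := by
    rw [← T.winv_h]; group
  rw [h2] at h1
  exact eq_mul_of_inv_mul_eq h1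

end Tor

/-- Additively closed sets stable under cubes of `ν` which contain `S` are everything. -/
def SpanBy (ν : Fˣ) (S : Set F) : Prop :=
  ∀ B : Set F, (0 : F) ∈ B → (∀ a ∈ B, ∀ b ∈ B, a + b ∈ B) →
    (∀ x ∈ B, ((ν ^ 3 : Fˣ) : F) * x ∈ B) → S ⊆ B → ∀ x, x ∈ B

/-- The root element `x_{10}`. -/
def r10 (φ : F → P) (w : P) (a : F) : P := w * φ (-1 * a) * w⁻¹

/-- The root element `x_{21}`. -/
def r21 (φ : F → P) (w c : P) (a : F) : P := c * r10 φ w (1 * a) * c⁻¹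

/-- The root element `x_{02}`. -/
def r02 (φ : F → P) (w c : P) (a : F) : P := c⁻¹ * r10 φ w (1 * a) * c⁻¹⁻¹

/-- The root element `x_{12}`. -/
def r12 (φ : F → P) (c : P) (a : F) : P := c * φ (1 * a) * c⁻¹

/-- The root element `x_{20}`. -/
def r20 (φ : F → P) (c : P) (a : F) : P := c⁻¹ * φ (1 * a) * c⁻¹⁻¹

/-- The system of data. -/
structure Sys (φ : F → P) (h w c : P) (ν : Fˣ) (e : ℕ) : Prop where
  tor : Tor h w c e
  neg : (ν : F) ^ e = -1
  gen : ∀ a : F, a ≠ 0 → ∃ i : ℕ, a = (ν : F) ^ i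
  zero : φ 0 = 1
  add : ∀ a b, φ (a + b) = φ a * φ b
  acth : Act h φ (ν ^ 2)
  actk : Act (c * h * c⁻¹) φ ν⁻¹

namespace Sys

variable {φ : F → P} {h w c : P} {ν : Fˣ} {e : ℕ} (T : Sys φ h w c ν e)

include T

theorem negU : ν ^ e = (-1 : Fˣ) := Units.ext (by simpa using T.neg)

theorem hk12 : Act (c * h * c⁻¹) (r12 φ c) (ν ^ 2) := T.acth.conj c (T.tor.cinv_k) 1

theorem hh12 : Act h (r12 φ c) (ν ^ 2 * ν⁻¹)⁻¹ :=
  (T.acth.mul T.actk).inv.conj c T.tor.cinv_h 1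

theorem hh20 : Act h (r20 φ c) ν⁻¹ := T.actk.conj c⁻¹ (by group) 1

theorem hk20 : Act (c * h * c⁻¹) (r20 φ c) (ν ^ 2 * ν⁻¹)⁻¹ :=
  (T.acth.mul T.actk).inv.conj c⁻¹ (by rw [inv_inv, ← T.tor.k'_eq]) 1

theorem hh10 : Act h (r10 φ w) (ν ^ 2)⁻¹ := T.acth.inv.conj w T.tor.winv_h (-1)

theorem hk10 : Act (c * h * c⁻¹) (r10 φ w) ν := by
  have := (T.acth.mul T.actk).conj w T.tor.winv_k (-1)
  have e1 : ν ^ 2 * ν⁻¹ = ν := by group
  rw [e1] at this
  exact this

theorem hk21 : Act (c * h * c⁻¹) (r21 φ w c) (ν ^ 2)⁻¹ := T.hh10.conj c T.tor.cinv_k 1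

theorem hh21 : Act h (r21 φ w c) ν := by
  have := (T.hh10.mul T.hk10).inv.conj c T.tor.cinv_h 1
  have e1 : ((ν ^ 2)⁻¹ * ν)⁻¹ = ν := by group
  rw [e1] at this
  exact this

theorem hh02 : Act h (r02 φ w c) ν := T.hk10.conj c⁻¹ (by group) 1

theorem hk02 : Act (c * h * c⁻¹) (r02 φ w c) ν := by
  have := (T.hh10.mul T.hk10).inv.conj c⁻¹ (z := c * h * c⁻¹)
    (by rw [inv_inv, ← T.tor.k'_eq]) 1
  have e1 : ((ν ^ 2)⁻¹ * ν)⁻¹ = ν := by group
  rw [e1] at this
  exact this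

theorem add12 (a b : F) : r12 φ c (a + b) = r12 φ c a * r12 φ c b := by
  simp only [r12, mul_add, T.add]; group

theorem add20 (a b : F) : r20 φ c (a + b) = r20 φ c a * r20 φ c b := by
  simp only [r20, mul_add, T.add]; group

theorem add10 (a b : F) : r10 φ w (a + b) = r10 φ w a * r10 φ w b := by
  simp only [r10, mul_add, T.add]; group

theorem add21 (a b : F) : r21 φ w c (a + b) = r21 φ w c a * r21 φ w c b := by
  simp only [r21, mul_add, T.add10]; group

theorem add02 (a b : F) : r02 φ w c (a + b) = r02 φ w c a * r02 φ w c b := by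
  simp only [r02, mul_add, T.add10]; group

theorem zero10 : r10 φ w (0 : F) = 1 := by simp [r10, T.zero]

theorem zero21 : r21 φ w c (0 : F) = 1 := by simp [r21, T.zero10]

theorem zero02 : r02 φ w c (0 : F) = 1 := by simp [r02, T.zero10]

/-- Spreading a property over all pairs. -/
theorem spread {S : Set F} (hS : SpanBy ν S) (Q : F → F → Prop) (r : Fˣ)
    (hr : ∀ x, Q 1 x → Q 1 ((r : F) * x)) (hr3 : r = ν ^ 3 ∨ r = (ν ^ 3)⁻¹)
    (hr' : ∀ x, Q 1 x → Q 1 (((r⁻¹ : Fˣ) : F) * x))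
    (h0 : Q 1 0) (hzero : ∀ b, Q 0 b) (hadd : ∀ a b, Q 1 a → Q 1 b → Q 1 (a + b))
    (hseed : ∀ d ∈ S, Q 1 d) (u v : Fˣ) (hu : ∀ i : ℕ, ∃ j : ℤ, ν ^ i = u ^ j)
    (huv : ∀ a b : F, Q a b → Q ((u : F) * a) ((v : F) * b))
    (huv' : ∀ a b : F, Q a b → Q (((u⁻¹ : Fˣ) : F) * a) (((v⁻¹ : Fˣ) : F) * b)) :
    ∀ a b, Q a b := by
  have h1 : ∀ b, Q 1 b := fun b => hS {x | Q 1 x} h0 (fun a ha b hb => hadd a b ha hb)
    (fun x hx => by
      rcases hr3 with h | h
      · rw [← h]; exact hr x hx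
      · have : (r⁻¹ : Fˣ) = ν ^ 3 := by rw [h, inv_inv]
        rw [← this]; exact hr' x hx) hseed b
  have key : ∀ (j : ℤ) (a b : F), Q a b →
      Q (((u ^ j : Fˣ) : F) * a) (((v ^ j : Fˣ) : F) * b) := by
    intro j
    induction j using Int.induction_on with
    | zero => intro a b hab; simpa using hab
    | succ i ih =>
      intro a b hab
      have := huv _ _ (ih a b hab)
      rwa [← mul_assoc, ← Units.val_mul, ← mul_assoc, ← Units.val_mul, ← zpow_one_add,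
        ← zpow_one_add, add_comm] at this
    | pred i ih =>
      intro a b hab
      have := huv' _ _ (ih a b hab)
      rwa [← mul_assoc, ← Units.val_mul, ← mul_assoc, ← Units.val_mul, ← zpow_neg_one,
        ← zpow_neg_one v, ← zpow_add, ← zpow_add, add_comm, ← sub_eq_add_neg] at this
  intro a b
  rcases eq_or_ne a 0 with rfl | ha
  · exact hzero b
  obtain ⟨i, rfl⟩ := T.gen a ha
  obtain ⟨j, hj⟩ := hu i
  have := key j 1 (((v ^ j)⁻¹ : Fˣ) * b) (h1 _)
  rwa [mul_one, ← hj, ← mul_assoc, ← Units.val_mul, mul_inv_cancel, Units.val_one, one_mul,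
    Units.val_pow_eq_pow_val] at this

end Sys

theorem commute_conj {z x y : P} (hxy : Commute x y) :
    Commute (z * x * z⁻¹) (z * y * z⁻¹) := by
  simpa using hxy.map (MulAut.conj z)

theorem comm_conj (z x y : P) :
    ⁅z * x * z⁻¹, z * y * z⁻¹⁆ = z * ⁅x, y⁆ * z⁻¹ := by
  simp only [commutatorElement_def]; group

namespace Sys

variable {φ : F → P} {h w c : P} {ν : Fˣ} {e : ℕ} (T : Sys φ h w c ν e)

include T

theorem nu_zpow (i : ℕ) : ∃ j : ℤ, ν ^ i = (ν⁻¹) ^ j := ⟨-i, by simp⟩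

theorem commute02 {S : Set F} (hS : SpanBy ν S) (hseed : ∀ d ∈ S, Commute (φ 1) (r02 φ w c d)) :
    ∀ a b, Commute (φ a) (r02 φ w c b) := by
  set k := c * h * c⁻¹ with hk
  have hs : Act (h * k * k) φ 1 := by
    have := (T.acth.mul T.actk).mul T.actk
    have e1 : ν ^ 2 * ν⁻¹ * ν⁻¹ = 1 := by group
    rwa [e1] at this
  have hs' : Act (h * k * k) (r02 φ w c) (ν ^ 3) := by
    have := (T.hh02.mul T.hk02).mul T.hk02
    have e1 : ν * ν * ν = ν ^ 3 := by rw [pow_succ, pow_two]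
    rwa [e1] at this
  have tr : ∀ (z : P) (r r' : Fˣ), Act z φ r → Act z (r02 φ w c) r' → ∀ a b,
      Commute (φ a) (r02 φ w c b) → Commute (φ ((r : F) * a)) (r02 φ w c ((r' : F) * b)) := by
    intro z r r' h1 h2 a b hab
    rw [← h1, ← h2]; exact commute_conj hab
  refine T.spread hS (fun a b => Commute (φ a) (r02 φ w c b)) (ν ^ 3) ?_ (Or.inl rfl) ?_
    (by simp [T.zero02]) (fun b => by simp [T.zero]) (fun a b ha hb => ?_) hseed ν⁻¹ ν T.nu_zpow
    (tr k _ _ T.actk T.hk02) (tr k⁻¹ _ _ T.actk.inv T.hk02.inv)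
  · intro x hx; simpa using tr _ _ _ hs hs' 1 x hx
  · intro x hx; simpa using tr _ _ _ hs.inv hs'.inv 1 x hx
  · rw [T.add02]; exact ha.mul_right hb

theorem commute21 {S : Set F} (hS : SpanBy ν S) (hseed : ∀ d ∈ S, Commute (φ 1) (r21 φ w c d)) :
    ∀ a b, Commute (φ a) (r21 φ w c b) := by
  set k := c * h * c⁻¹ with hk
  have hs : Act (h * k * k) φ 1 := by
    have := (T.acth.mul T.actk).mul T.actk
    have e1 : ν ^ 2 * ν⁻¹ * ν⁻¹ = 1 := by group
    rwa [e1] at this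
  have hs' : Act (h * k * k) (r21 φ w c) (ν ^ 3)⁻¹ := by
    have := (T.hh21.mul T.hk21).mul T.hk21
    have e1 : ν * (ν ^ 2)⁻¹ * (ν ^ 2)⁻¹ = (ν ^ 3)⁻¹ := by group
    rwa [e1] at this
  have tr : ∀ (z : P) (r r' : Fˣ), Act z φ r → Act z (r21 φ w c) r' → ∀ a b,
      Commute (φ a) (r21 φ w c b) → Commute (φ ((r : F) * a)) (r21 φ w c ((r' : F) * b)) := by
    intro z r r' h1 h2 a b hab
    rw [← h1, ← h2]; exact commute_conj hab
  refine T.spread hS (fun a b => Commute (φ a) (r21 φ w c b)) (ν ^ 3)⁻¹ ?_ (Or.inr rfl) ?_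
    (by simp [T.zero21]) (fun b => by simp [T.zero]) (fun a b ha hb => ?_) hseed ν⁻¹ (ν ^ 2)⁻¹
    T.nu_zpow (tr k _ _ T.actk T.hk21) (tr k⁻¹ _ _ T.actk.inv T.hk21.inv)
  · intro x hx; simpa using tr _ _ _ hs hs' 1 x hx
  · intro x hx; simpa using tr _ _ _ hs.inv hs'.inv 1 x hx
  · rw [T.add21]; exact ha.mul_right hb

theorem commutator021 {S : Set F} (hS : SpanBy ν S)
    (hc : ∀ a b, Commute (φ a) (r21 φ w c b))
    (hseed : ∀ d ∈ S, ⁅r02 φ w c 1, r21 φ w c d⁆ = φ d) :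
    ∀ a b, ⁅r02 φ w c a, r21 φ w c b⁆ = φ (a * b) := by
  set k := c * h * c⁻¹ with hk
  have hz : Act (h⁻¹ * k) φ (ν ^ 3)⁻¹ := by
    have := T.acth.inv.mul T.actk
    have e1 : (ν ^ 2)⁻¹ * ν⁻¹ = (ν ^ 3)⁻¹ := by group
    rwa [e1] at this
  have hz02 : Act (h⁻¹ * k) (r02 φ w c) 1 := by
    have := T.hh02.inv.mul T.hk02
    rwa [inv_mul_cancel] at this
  have hz21 : Act (h⁻¹ * k) (r21 φ w c) (ν ^ 3)⁻¹ := by
    have := T.hh21.inv.mul T.hk21
    have e1 : ν⁻¹ * (ν ^ 2)⁻¹ = (ν ^ 3)⁻¹ := by group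
    rwa [e1] at this
  have tr : ∀ (z : P) (r r' r'' : Fˣ), Act z (r02 φ w c) r → Act z (r21 φ w c) r' → Act z φ r'' →
      r * r' = r'' → ∀ a b, ⁅r02 φ w c a, r21 φ w c b⁆ = φ (a * b) →
      ⁅r02 φ w c ((r : F) * a), r21 φ w c ((r' : F) * b)⁆ = φ ((r : F) * a * ((r' : F) * b)) := by
    intro z r r' r'' h1 h2 h3 he a b hab
    rw [← h1, ← h2, comm_conj, hab, h3, ← he, Units.val_mul, mul_mul_mul_comm]
  refine T.spread hS (fun a b => ⁅r02 φ w c a, r21 φ w c b⁆ = φ (a * b)) (ν ^ 3)⁻¹ ?_ (Or.inr rfl)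
    ?_ (by simp [T.zero21, T.zero]) (fun b => by simp [T.zero02, T.zero]) (fun a b ha hb => ?_)
    (fun d hd => by simpa using hseed d hd) ν (ν ^ 2)⁻¹ (fun i => ⟨i, by simp⟩)
    (tr k _ _ _ T.hk02 T.hk21 T.actk (by group))
    (tr k⁻¹ _ _ _ T.hk02.inv T.hk21.inv T.actk.inv (by group))
  · intro x hx; simpa using tr _ _ _ _ hz02 hz21 hz (by simp) 1 x hx
  · intro x hx; simpa using tr _ _ _ _ hz02.inv hz21.inv hz.inv (by simp) 1 x hx
  · simp only [one_mul] at ha hb ⊢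
    have key : ∀ x y z : P, ⁅x, y * z⁆ = ⁅x, y⁆ * (y * ⁅x, z⁆ * y⁻¹) := fun x y z => by
      simp only [commutatorElement_def]; group
    rw [T.add21, key, ha, hb, T.add, ← (hc b a).eq, mul_inv_cancel_right]

theorem c_conj (x : P) : c * (c * x * c⁻¹) * c⁻¹ = c⁻¹ * x * c⁻¹⁻¹ := by
  have h1 : c * (c * x * c⁻¹) * c⁻¹ = (c * c) * x * (c * c)⁻¹ := by group
  rw [h1, ← T.tor.c_inv]

theorem c_conj' (x : P) : c * (c⁻¹ * x * c⁻¹⁻¹) * c⁻¹ = x := by group

theorem c12 (a : F) : c * r12 φ c a * c⁻¹ = r20 φ c a := T.c_conj _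

theorem c20 (a : F) : c * r20 φ c a * c⁻¹ = φ a := by rw [r20, T.c_conj', one_mul]

theorem c01 (a : F) : c * φ a * c⁻¹ = r12 φ c a := by rw [r12, one_mul]

theorem c10 (a : F) : c * r10 φ w a * c⁻¹ = r21 φ w c a := by rw [r21, one_mul]

theorem c21 (a : F) : c * r21 φ w c a * c⁻¹ = r02 φ w c a := T.c_conj _

theorem c02 (a : F) : c * r02 φ w c a * c⁻¹ = r10 φ w a := by rw [r02, T.c_conj', one_mul]

theorem w01 (a : F) : w * φ a * w⁻¹ = r10 φ w (-a) := by rw [r10, neg_one_mul, neg_neg]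

theorem negsq : (ν ^ 2) ^ e = 1 := by rw [← pow_mul, mul_comm, pow_mul, T.negU]; norm_num

theorem w10 (a : F) : w * r10 φ w a * w⁻¹ = φ (-a) := by
  have h1 : w * r10 φ w a * w⁻¹ = (w * w) * φ (-1 * a) * (w * w)⁻¹ := by simp only [r10]; group
  rw [h1, T.tor.ww, (T.acth.pow e), T.negsq, Units.val_one, one_mul, neg_one_mul]

theorem w02 (a : F) : w * r02 φ w c a * w⁻¹ = r12 φ c (-a) := by
  have h1 : w * r02 φ w c a * w⁻¹ =
      (w * c * w⁻¹)⁻¹ * (w * r10 φ w a * w⁻¹) * (w * c * w⁻¹) := by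
    simp only [r02, one_mul]; group
  have h2 := ((T.hk12.pow e).inv) (-a)
  rw [T.negsq, inv_one, Units.val_one, one_mul, inv_inv] at h2
  rw [h1, T.w10, T.tor.wc, ← h2, r12, one_mul]
  group

theorem w21 (a : F) : w * r21 φ w c a * w⁻¹ = r20 φ c a := by
  have h1 : w * r21 φ w c a * w⁻¹ =
      (w * c * w⁻¹) * (w * r10 φ w a * w⁻¹) * (w * c * w⁻¹)⁻¹ := by
    simp only [r21, one_mul]; group
  have h2 := (T.actk.pow e) (-a)
  rw [inv_pow, T.negU, inv_neg, inv_one, Units.val_neg, Units.val_one, neg_one_mul, neg_neg] at h2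
  rw [h1, T.w10, T.tor.wc, r20, one_mul, ← h2]
  group

end Sys

/-- The six root subgroups. -/
def root (φ : F → P) (w c : P) : Fin 3 → Fin 3 → F → P :=
  ![![fun _ => 1, φ, r02 φ w c], ![r10 φ w, fun _ => 1, r12 φ c], ![r20 φ c, r21 φ w c, fun _ => 1]]

namespace Sys

variable {φ : F → P} {h w c : P} {ν : Fˣ} {e : ℕ} (T : Sys φ h w c ν e)

include T

theorem root_rot (i j : Fin 3) (hij : i ≠ j) (a : F) :
    c * root φ w c i j a * c⁻¹ = root φ w c (i + 1) (j + 1) a := by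
  fin_cases i <;> fin_cases j <;> first
    | exact absurd rfl hij
    | exact T.c01 a | exact T.c12 a | exact T.c20 a | exact T.c10 a | exact T.c21 a | exact T.c02 a

theorem root_add (i j : Fin 3) (hij : i ≠ j) (a b : F) :
    root φ w c i j (a + b) = root φ w c i j a * root φ w c i j b := by
  fin_cases i <;> fin_cases j <;> first
    | exact absurd rfl hij
    | exact T.add a b | exact T.add12 a b | exact T.add20 a b
    | exact T.add10 a b | exact T.add21 a b | exact T.add02 a b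

theorem commute_rot {i j k l : Fin 3} (hij : i ≠ j) (hkl : k ≠ l) {a b : F}
    (hc : Commute (root φ w c i j a) (root φ w c k l b)) :
    Commute (root φ w c (i + 1) (j + 1) a) (root φ w c (k + 1) (l + 1) b) := by
  rw [← T.root_rot i j hij, ← T.root_rot k l hkl]; exact commute_conj hc

theorem rel_rot {i j k : Fin 3} (hij : i ≠ j) (hjk : j ≠ k) (hik : i ≠ k) {a b : F}
    (hr : ⁅root φ w c i j a, root φ w c j k b⁆ = root φ w c i k (a * b)) :
    ⁅root φ w c (i + 1) (j + 1) a, root φ w c (j + 1) (k + 1) b⁆ =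
      root φ w c (i + 1) (k + 1) (a * b) := by
  rw [← T.root_rot i j hij, ← T.root_rot j k hjk, ← T.root_rot i k hik, comm_conj, hr]

theorem root_commute (hC1 : ∀ a b, Commute (φ a) (r02 φ w c b))
    (hC2 : ∀ a b, Commute (φ a) (r21 φ w c b)) (i j k l : Fin 3) (hij : i ≠ j) (hkl : k ≠ l)
    (hjk : j ≠ k) (hil : i ≠ l) (a b : F) :
    Commute (root φ w c i j a) (root φ w c k l b) := by
  by_cases hsame : i = k ∧ j = l
  · obtain ⟨rfl, rfl⟩ := hsame
    show _ = _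
    rw [← T.root_add i j hij, add_comm, T.root_add i j hij]
  have r1 : ∀ a b, Commute (root φ w c 0 1 a) (root φ w c 0 2 b) := hC1
  have r2 : ∀ a b, Commute (root φ w c 1 2 a) (root φ w c 1 0 b) := fun a b =>
    T.commute_rot (by decide) (by decide) (r1 a b)
  have r3 : ∀ a b, Commute (root φ w c 2 0 a) (root φ w c 2 1 b) := fun a b =>
    T.commute_rot (by decide) (by decide) (r2 a b)
  have s1 : ∀ a b, Commute (root φ w c 0 1 a) (root φ w c 2 1 b) := hC2
  have s2 : ∀ a b, Commute (root φ w c 1 2 a) (root φ w c 0 2 b) := fun a b =>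
    T.commute_rot (by decide) (by decide) (s1 a b)
  have s3 : ∀ a b, Commute (root φ w c 2 0 a) (root φ w c 1 0 b) := fun a b =>
    T.commute_rot (by decide) (by decide) (s2 a b)
  fin_cases i <;> fin_cases j <;> fin_cases k <;> fin_cases l <;> first
    | exact absurd rfl hij
    | exact absurd rfl hkl
    | exact absurd rfl hjk
    | exact absurd rfl hil
    | exact absurd ⟨rfl, rfl⟩ hsame
    | exact r1 a b | exact (r1 b a).symm | exact r2 a b | exact (r2 b a).symm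
    | exact r3 a b | exact (r3 b a).symm | exact s1 a b | exact (s1 b a).symm
    | exact s2 a b | exact (s2 b a).symm | exact s3 a b | exact (s3 b a).symm

theorem root_rel (hK : ∀ a b, ⁅r02 φ w c a, r21 φ w c b⁆ = φ (a * b)) (i j k : Fin 3)
    (hij : i ≠ j) (hjk : j ≠ k) (hik : i ≠ k) (a b : F) :
    ⁅root φ w c i j a, root φ w c j k b⁆ = root φ w c i k (a * b) := by
  have k1 : ⁅root φ w c 0 2 a, root φ w c 2 1 b⁆ = root φ w c 0 1 (a * b) := hK a b
  have k2 : ⁅root φ w c 1 0 a, root φ w c 0 2 b⁆ = root φ w c 1 2 (a * b) :=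
    T.rel_rot (by decide) (by decide) (by decide) k1
  have k3 : ⁅root φ w c 2 1 a, root φ w c 1 0 b⁆ = root φ w c 2 0 (a * b) :=
    T.rel_rot (by decide) (by decide) (by decide) k2
  have t1 : ⁅root φ w c 1 2 a, root φ w c 2 0 b⁆ = root φ w c 1 0 (a * b) := by
    show ⁅r12 φ c a, r20 φ c b⁆ = r10 φ w (a * b)
    have h12 : w * r02 φ w c (-a) * w⁻¹ = r12 φ c a := by rw [T.w02, neg_neg]
    rw [← h12, ← T.w21, comm_conj, hK, T.w01, neg_mul, neg_neg]
  have t2 : ⁅root φ w c 2 0 a, root φ w c 0 1 b⁆ = root φ w c 2 1 (a * b) :=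
    T.rel_rot (by decide) (by decide) (by decide) t1
  have t3 : ⁅root φ w c 0 1 a, root φ w c 1 2 b⁆ = root φ w c 0 2 (a * b) :=
    T.rel_rot (by decide) (by decide) (by decide) t2
  fin_cases i <;> fin_cases j <;> fin_cases k <;> first
    | exact absurd rfl hij
    | exact absurd rfl hjk
    | exact absurd rfl hik
    | exact k1 | exact k2 | exact k3 | exact t1 | exact t2 | exact t3

theorem act_h_root (i j : Fin 3) (hij : i ≠ j) : ∃ r, Act h (root φ w c i j) r := by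
  fin_cases i <;> fin_cases j <;> first
    | exact absurd rfl hij
    | exact ⟨_, T.acth⟩ | exact ⟨_, T.hh12⟩ | exact ⟨_, T.hh20⟩
    | exact ⟨_, T.hh10⟩ | exact ⟨_, T.hh21⟩ | exact ⟨_, T.hh02⟩

/-- The map from `SL(3, F)`. -/
theorem exists_hom [Finite F] (hC1 : ∀ a b, Commute (φ a) (r02 φ w c b))
    (hC2 : ∀ a b, Commute (φ a) (r21 φ w c b))
    (hK : ∀ a b, ⁅r02 φ w c a, r21 φ w c b⁆ = φ (a * b))
    (hw : w = φ 1 * (w * φ 1 * w⁻¹) * φ 1)
    (hgen : Subgroup.closure ({φ 1, h, w, c} : Set P) = ⊤) :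
    ∃ f : Matrix.SpecialLinearGroup (Fin 3) F →* P, Function.Surjective f ∧
      ∀ (i j : Fin 3) (hij : i ≠ j) (a : F),
        f (Matrix.SpecialLinearGroup.transvection hij a) = root φ w c i j a := by
  obtain ⟨f, hf⟩ := SteinbergSL.exists_hom le_rfl (root φ w c) T.root_add
    (T.root_commute hC1 hC2) (T.root_rel hK)
  refine ⟨f, ?_, hf⟩
  rw [← MonoidHom.range_eq_top]
  set R := Subgroup.closure {x : P | ∃ i j : Fin 3, i ≠ j ∧ ∃ a, x = root φ w c i j a} with hR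
  have hle : R ≤ f.range := (Subgroup.closure_le _).2 (by
    rintro _ ⟨i, j, hij, a, rfl⟩; exact ⟨_, hf i j hij a⟩)
  have hmem : ∀ i j, i ≠ j → ∀ a, root φ w c i j a ∈ R := fun i j hij a =>
    Subgroup.subset_closure ⟨i, j, hij, a, rfl⟩
  have hu : φ 1 ∈ R := hmem 0 1 (by decide) 1
  have hwR : w ∈ R := by
    rw [hw]
    refine mul_mem (mul_mem hu ?_) hu
    rw [T.w01]
    exact hmem 1 0 (by decide) (-1)
  have norm : ∀ g : P, (∀ i j, i ≠ j → ∀ a, g * root φ w c i j a * g⁻¹ ∈ R) →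
      ∀ x ∈ R, g * x * g⁻¹ ∈ R := by
    intro g hg x hx
    have : R ≤ R.comap (MulAut.conj g).toMonoidHom := (Subgroup.closure_le _).2 (by
      rintro _ ⟨i, j, hij, a, rfl⟩
      exact hg i j hij a)
    simpa using this hx
  have hnc : ∀ x ∈ R, c * x * c⁻¹ ∈ R := norm c fun i j hij a => by
    rw [T.root_rot i j hij]; exact hmem _ _ (by simpa using hij) a
  have hnh : ∀ x ∈ R, h * x * h⁻¹ ∈ R := norm h fun i j hij a => by
    obtain ⟨r, hr⟩ := T.act_h_root i j hij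
    rw [hr]; exact hmem i j hij _
  have hnh' : ∀ x ∈ R, h⁻¹ * x * h⁻¹⁻¹ ∈ R := norm h⁻¹ fun i j hij a => by
    obtain ⟨r, hr⟩ := T.act_h_root i j hij
    rw [hr.inv]; exact hmem i j hij _
  have hnc' : ∀ x ∈ R, c⁻¹ * x * c⁻¹⁻¹ ∈ R := by
    intro x hx
    rw [← T.c_conj x]; exact hnc _ (hnc x hx)
  have hN : R.Normal := by
    rw [← Subgroup.normalizer_eq_top_iff, eq_top_iff, ← hgen, Subgroup.closure_le]
    have key : ∀ g : P, (∀ x ∈ R, g * x * g⁻¹ ∈ R) → (∀ x ∈ R, g⁻¹ * x * g⁻¹⁻¹ ∈ R) →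
        g ∈ Subgroup.normalizer (R : Set P) := by
      intro g h1 h2
      rw [Subgroup.mem_normalizer_iff]
      refine fun x => ⟨h1 x, fun hx => ?_⟩
      have := h2 _ hx
      rwa [show g⁻¹ * (g * x * g⁻¹) * g⁻¹⁻¹ = x by group] at this
    rintro g (rfl | rfl | rfl | rfl)
    · exact Subgroup.le_normalizer hu
    · exact key _ hnh hnh'
    · exact Subgroup.le_normalizer hwR
    · exact key _ hnc hnc'
  let q := QuotientGroup.mk' R
  have q1 : ∀ x ∈ R, q x = 1 := fun x hx => (QuotientGroup.eq_one_iff x).2 hx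
  have qw : q w = 1 := q1 w hwR
  have h2 : q h * q h = 1 := by
    have := congrArg q T.tor.wh
    simp only [map_mul, map_inv, qw, one_mul, inv_one, mul_one] at this
    exact mul_eq_one_iff_eq_inv.2 this
  have hc3 : q c ^ 3 = 1 := by rw [← map_pow, T.tor.cc, map_one]
  have hcc : q c * q c = (q c * q h * (q c)⁻¹) ^ e := by
    have := congrArg q T.tor.wc
    simp only [map_mul, map_inv, map_pow, qw, one_mul, inv_one, mul_one] at this
    exact (eq_inv_mul_iff_mul_eq.1 this)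
  have hc1 : q c = 1 := by
    have h4 : (q c * q c) * (q c * q c) = 1 := by
      rw [hcc, ← pow_add, ← two_mul, pow_mul, pow_two]
      have : (q c * q h * (q c)⁻¹) * (q c * q h * (q c)⁻¹) = q c * (q h * q h) * (q c)⁻¹ := by group
      rw [this, h2, mul_one, mul_inv_cancel, one_pow]
    rw [pow_succ, pow_two] at hc3
    rwa [← mul_assoc, hc3, one_mul] at h4
  have hh1 : q h = 1 := by
    have := congrArg q T.tor.hkk
    simp only [map_mul, map_inv, map_one, hc1, one_mul, inv_one, mul_one] at this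
    rwa [h2, one_mul] at this
  rw [eq_top_iff, ← hgen, Subgroup.closure_le]
  rintro g (rfl | rfl | rfl | rfl)
  · exact hle hu
  · exact hle ((QuotientGroup.eq_one_iff _).1 hh1)
  · exact hle hwR
  · exact hle ((QuotientGroup.eq_one_iff _).1 hc1)

end Sys

end Cfsg.Agent.SL3Pres
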