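import Mathlib
import Cfsg.Agent.SL3Pres.Core
import Cfsg.Agent.SL2Pres.Presentations

/-!
# Short presentations of SL3: the root group from the relations
-/

set_option autoImplicit false

namespace Cfsg.Agent.SL3Pres

open Polynomial Cfsg.Agent.SL2Pres
open scoped commutatorElement

section Field

variable {p : ℕ} [Fact p.Prime] {F : Type*} [Field F] [Fintype F] [Algebra (ZMod p) F]

theorem surjective_cube {ν : Fˣ} (hν : orderOf ν = Fintype.card F - 1)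
    (h4 : Fintype.card F ≠ 4) :
    Function.Surjective ⇑(Polynomial.aeval ((ν : F) ^ 3) : (ZMod p)[X] →ₐ[ZMod p] F) := by
  rcases surjective_or_small (p := p) ((ν : F) ^ 3) with h | ⟨s, a, -, hs, hsq, hfix⟩
  · exact h
  exfalso
  have h1 := hfix _ (IntermediateField.mem_adjoin_simple_self _ _)
  have h2 : ν ^ (3 * (s - 1)) = 1 := by
    apply Units.ext
    have hne : (ν : F) ^ 3 ≠ 0 := pow_ne_zero _ ν.ne_zero
    have : ((ν : F) ^ 3) ^ (s - 1) * (ν : F) ^ 3 = 1 * (ν : F) ^ 3 := by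
      rw [← pow_succ, Nat.sub_add_cancel (by omega : 1 ≤ s), h1, one_mul]
    rw [Units.val_pow_eq_pow_val, pow_mul, mul_right_cancel₀ hne this, Units.val_one]
  have h3 := Nat.le_of_dvd (by omega) (hν ▸ orderOf_dvd_of_pow_eq_one h2)
  obtain rfl : s = 2 := by
    by_contra hne
    have : 3 * s ≤ s * s := Nat.mul_le_mul_right s (by omega)
    omega
  omega

theorem exists_sign (ν : Fˣ) (hν : orderOf ν = Fintype.card F - 1) :
    ∃ e : ℕ, (ν : F) ^ e = -1 := by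
  obtain ⟨e, he⟩ := exists_pow_eq hν (show (-1 : F) ≠ 0 by simp)
  exact ⟨e, he.symm⟩

theorem spanBy_one {ν : Fˣ}
    (hs : Function.Surjective ⇑(Polynomial.aeval ((ν : F) ^ 3) : (ZMod p)[X] →ₐ[ZMod p] F)) :
    SpanBy ν ({1} : Set F) := by
  intro B h0 hadd hmul h1 x
  obtain ⟨g, rfl⟩ := hs x
  induction g using Polynomial.induction_on' with
  | add g₁ g₂ ih₁ ih₂ => rw [map_add]; exact hadd _ ih₁ _ ih₂
  | monomial n a =>
    have hn : ((ν : F) ^ 3) ^ n ∈ B := by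
      induction n with
      | zero => rw [pow_zero]; exact h1 rfl
      | succ n ih => rw [pow_succ']; simpa using hmul _ ih
    have hc : ∀ m : ℕ, (m : F) * ((ν : F) ^ 3) ^ n ∈ B := by
      intro m
      induction m with
      | zero => simpa using h0
      | succ m ih => rw [Nat.cast_succ, add_mul, one_mul]; exact hadd _ ih _ hn
    rw [aeval_monomial, ← ZMod.natCast_rightInverse a, map_natCast]
    exact hc _

omit [Fact p.Prime] [Algebra (ZMod p) F] in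
theorem spanBy_four [CharP F 2] (h4 : Fintype.card F = 4) (ν : Fˣ) {r : F} (hr0 : r ≠ 0)
    (hr1 : r ≠ 1) : SpanBy ν ({1, r} : Set F) := by
  classical
  intro B h0 hadd _ hS x
  have h1 : (1 : F) ∈ B := hS (Or.inl rfl)
  have hr : r ∈ B := hS (Or.inr rfl)
  have hne : 1 + r ≠ 0 := by
    intro h
    exact hr1 (CharTwo.add_eq_zero.1 h).symm
  have hcard : ({0, 1, r, 1 + r} : Finset F).card = 4 := by
    simp [hr0.symm, hr1.symm, hne.symm, hr0]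
  have hx : x ∈ ({0, 1, r, 1 + r} : Finset F) := by
    rw [Finset.eq_univ_of_card _ (hcard.trans h4.symm)]
    exact Finset.mem_univ x
  simp only [Finset.mem_insert, Finset.mem_singleton] at hx
  rcases hx with rfl | rfl | rfl | rfl
  exacts [h0, h1, hr, hadd _ h1 _ hr]

end Field

section Group

variable {P : Type*} [Group P] {u h w c : P} {e : ℕ}

theorem conj_pow_eq {x s v : P} (hxs : Commute x s) (hv : x * v * x⁻¹ = s * v * s⁻¹) (n : ℕ) :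
    x ^ n * v * (x ^ n)⁻¹ = s ^ n * v * (s ^ n)⁻¹ := by
  induction n with
  | zero => simp
  | succ n ih =>
    calc x ^ (n + 1) * v * (x ^ (n + 1))⁻¹ = x * (x ^ n * v * (x ^ n)⁻¹) * x⁻¹ := by
          rw [pow_succ']; group
      _ = (x * s ^ n) * v * (x * s ^ n)⁻¹ := by rw [ih]; group
      _ = s ^ n * (x * v * x⁻¹) * (s ^ n)⁻¹ := by rw [(hxs.pow_right n).eq]; group
      _ = _ := by rw [hv, pow_succ]; group

theorem conj_eq_of_centralize {x s g y : P} (hy : Commute (g⁻¹ * (s⁻¹ * x) * g) y) :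
    x * (g * y * g⁻¹) * x⁻¹ = s * (g * y * g⁻¹) * s⁻¹ := by
  calc x * (g * y * g⁻¹) * x⁻¹
      = s * g * ((g⁻¹ * (s⁻¹ * x) * g) * y * (g⁻¹ * (s⁻¹ * x) * g)⁻¹) * g⁻¹ * s⁻¹ := by group
    _ = s * g * y * g⁻¹ * s⁻¹ := by rw [hy.eq]; group
    _ = _ := by group

theorem commute_s (T : Tor h w c e)
    (hhu : h * u * h⁻¹ = ((c * h * c⁻¹) * (c * h * c⁻¹))⁻¹ * u * ((c * h * c⁻¹) * (c * h * c⁻¹))) :
    Commute (h * ((c * h * c⁻¹) * (c * h * c⁻¹))) u := by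
  have hk := T.hk
  generalize c * h * c⁻¹ = k at hhu hk ⊢
  rw [(hk.mul_right hk).eq]
  show k * k * h * u = u * (k * k * h)
  calc k * k * h * u = k * k * (h * u * h⁻¹) * h := by group
    _ = _ := by rw [hhu]; group

theorem k_pow_commute (T : Tor h w c e)
    (hhu : h * u * h⁻¹ = ((c * h * c⁻¹) * (c * h * c⁻¹))⁻¹ * u * ((c * h * c⁻¹) * (c * h * c⁻¹)))
    (h02 : Commute u (c⁻¹ * (w * u⁻¹ * w⁻¹) * c⁻¹⁻¹))
    (h21 : Commute u (c * (w * u⁻¹ * w⁻¹) * c⁻¹))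
    (hK : ⁅c⁻¹ * (w * u⁻¹ * w⁻¹) * c⁻¹⁻¹, c * (w * u⁻¹ * w⁻¹) * c⁻¹⁆ = u) (n : ℕ) :
    Commute u (cj ((c * h * c⁻¹) ^ 3) u n) := by
  have hk := T.hk
  have hks := commute_s T hhu
  have hch : c⁻¹ * h * c = (h * (c * h * c⁻¹))⁻¹ := T.cinv_h
  have hck : c⁻¹ * (c * h * c⁻¹) * c = h := T.cinv_k
  have hck' : c * (c * h * c⁻¹) * c⁻¹ = (h * (c * h * c⁻¹))⁻¹ := T.k'_eq
  have hch' : c * h * c⁻¹ = c * h * c⁻¹ := rfl
  have hwh := T.winv_h
  have hwk := T.winv_k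
  generalize hkdef : c * h * c⁻¹ = k at *
  set s := h * (k * k) with hs
  have hxs : Commute (k ^ 3) s :=
    ((hk.symm.pow_left 3).mul_right ((Commute.refl k).pow_left 3 |>.mul_right
      ((Commute.refl k).pow_left 3)))
  have hkh : k * h = h * k := hk.symm.eq
  have e1 : s⁻¹ * k ^ 3 = h⁻¹ * k := by
    rw [hs, show h * (k * k) = k * k * h from (hk.mul_right hk).eq]; group
  have v02 : k ^ 3 * (c⁻¹ * (w * u⁻¹ * w⁻¹) * c⁻¹⁻¹) * (k ^ 3)⁻¹ =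
      s * (c⁻¹ * (w * u⁻¹ * w⁻¹) * c⁻¹⁻¹) * s⁻¹ := by
    rw [show c⁻¹ * (w * u⁻¹ * w⁻¹) * c⁻¹⁻¹ = (c⁻¹ * w) * u⁻¹ * (c⁻¹ * w)⁻¹ by group]
    refine conj_eq_of_centralize ?_
    have e2 : (c⁻¹ * w)⁻¹ * (h⁻¹ * k) * (c⁻¹ * w) =
        w⁻¹ * ((c * h * c⁻¹)⁻¹ * (c * k * c⁻¹)) * w := by group
    have e3 : w⁻¹ * (k⁻¹ * (h * k)⁻¹) * w = ((w⁻¹ * h * w) * (w⁻¹ * k * w) * (w⁻¹ * k * w))⁻¹ := by
      group
    rw [e1, e2, hkdef, hck', e3, hwh, hwk]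
    have e4 : h⁻¹ * (h * k) * (h * k) = s := by
      calc h⁻¹ * (h * k) * (h * k) = (k * h) * k := by group
        _ = _ := by rw [hkh, hs, mul_assoc]
    rw [e4]
    exact hks.inv_left.inv_right
  have v21 : k ^ 3 * (c * (w * u⁻¹ * w⁻¹) * c⁻¹) * (k ^ 3)⁻¹ =
      (s * s) * (c * (w * u⁻¹ * w⁻¹) * c⁻¹) * (s * s)⁻¹ := by
    rw [show c * (w * u⁻¹ * w⁻¹) * c⁻¹ = (c * w) * u⁻¹ * (c * w)⁻¹ by group]
    refine conj_eq_of_centralize ?_
    have e2 : (s * s)⁻¹ * k ^ 3 = h⁻¹ * h⁻¹ * k⁻¹ := by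
      have e6 : s * s = k ^ 3 * (k * (h * h)) := by
        rw [hs, show h * (k * k) = k * k * h from (hk.mul_right hk).eq]
        calc k * k * h * (k * k * h) = k * k * (h * (k * k)) * h := by group
          _ = k * k * (k * k * h) * h := by rw [(hk.mul_right hk).eq]
          _ = _ := by simp only [pow_succ, pow_zero, one_mul, mul_assoc]
      rw [e6]; group
    have e3 : (c * w)⁻¹ * (h⁻¹ * h⁻¹ * k⁻¹) * (c * w) =
        w⁻¹ * ((c⁻¹ * h * c)⁻¹ * (c⁻¹ * h * c)⁻¹ * (c⁻¹ * k * c)⁻¹) * w := by group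
    have e4 : w⁻¹ * ((h * k)⁻¹⁻¹ * (h * k)⁻¹⁻¹ * h⁻¹) * w =
        (w⁻¹ * h * w) * (w⁻¹ * k * w) * (w⁻¹ * h * w) * (w⁻¹ * k * w) * (w⁻¹ * h * w)⁻¹ := by group
    rw [e2, e3, hch, hck, e4, hwh, hwk]
    have e5 : h⁻¹ * (h * k) * h⁻¹ * (h * k) * h⁻¹⁻¹ = s := by
      rw [hs, (hk.mul_right hk).eq]; group
    rw [e5]
    exact hks.inv_right
  have key : cj (k ^ 3) u n = ⁅s ^ n * (c⁻¹ * (w * u⁻¹ * w⁻¹) * c⁻¹⁻¹) * (s ^ n)⁻¹,
      (s * s) ^ n * (c * (w * u⁻¹ * w⁻¹) * c⁻¹) * ((s * s) ^ n)⁻¹⁆ := by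
    rw [← conj_pow_eq hxs v02 n, ← conj_pow_eq (hxs.mul_right hxs) v21 n, comm_conj, hK]
    rfl
  have fix : ∀ (m : ℕ) (v : P), Commute u v → Commute u (s ^ m * v * (s ^ m)⁻¹) := by
    intro m v hv
    have := commute_conj (z := s ^ m) hv
    rwa [show s ^ m * u * (s ^ m)⁻¹ = u from by rw [(hks.pow_left m).eq, mul_inv_cancel_right]]
      at this
  rw [key, commutatorElement_def]
  have a := fix n _ h02
  have b := fix (2 * n) _ h21
  rw [pow_mul, pow_two] at b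
  exact ((a.mul_right b).mul_right a.inv_right).mul_right b.inv_right

variable {p : ℕ} [Fact p.Prime] {F : Type*} [Field F] [Fintype F] [Algebra (ZMod p) F]

/-- The data from the relations, for a step `x` which is a power of `k`. -/
theorem exists_sys {ν : Fˣ} (hν : orderOf ν = Fintype.card F - 1) (he : (ν : F) ^ e = -1)
    (T : Tor h w c e)
    (hhu : h * u * h⁻¹ = ((c * h * c⁻¹) * (c * h * c⁻¹))⁻¹ * u * ((c * h * c⁻¹) * (c * h * c⁻¹)))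
    (hp : u ^ p = 1) (m : ℕ)
    (hc : ∀ i j, Commute (cj ((c * h * c⁻¹) ^ m) u i) (cj ((c * h * c⁻¹) ^ m) u j))
    (hgen : Function.Surjective (Polynomial.aeval (R := ZMod p) (((ν⁻¹ : Fˣ) : F) ^ m)))
    (hf : pword ((c * h * c⁻¹) ^ m) u (minpoly (ZMod p) (((ν⁻¹ : Fˣ) : F) ^ m)) = 1)
    (g₀ : (ZMod p)[X]) (hg₀ : aeval (((ν⁻¹ : Fˣ) : F) ^ m) g₀ = ((ν⁻¹ : Fˣ) : F))
    (hku : (c * h * c⁻¹) * u * (c * h * c⁻¹)⁻¹ = pword ((c * h * c⁻¹) ^ m) u g₀) :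
    ∃ φ : F → P, φ 1 = u ∧ Sys φ h w c ν e := by
  have hk := T.hk
  obtain ⟨φ, h0, h1, hadd, hconj⟩ := exists_param (F := F) hp hc hgen hf g₀ hg₀
    ((Commute.refl (c * h * c⁻¹)).pow_right m) hku
  have actk : Act (c * h * c⁻¹) φ ν⁻¹ := hconj
  refine ⟨φ, h1, T, he, fun a ha => exists_pow_eq hν ha, h0, hadd, fun b => ?_, actk⟩
  generalize c * h * c⁻¹ = k at *
  obtain ⟨g, rfl⟩ := hgen b
  have hx : ∀ b, k ^ m * φ b * (k ^ m)⁻¹ = φ (((ν⁻¹ : Fˣ) : F) ^ m * b) := fun b => by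
    rw [(actk.pow m) b, Units.val_pow_eq_pow_val]
  have hw := pword_of_param φ h0 hadd hx g
  rw [h1] at hw
  rw [← hw]
  have e1 : ∀ z : P, Commute z (k ^ m) →
      z * pword (k ^ m) u g * z⁻¹ = pword (k ^ m) (z * u * z⁻¹) g := by
    intro z hz
    rw [← MulAut.conj_apply, ← MulEquiv.coe_toMonoidHom, map_pword, MulEquiv.coe_toMonoidHom,
      MulAut.conj_apply, MulAut.conj_apply, hz.eq, mul_inv_cancel_right]
  have hkk : Commute (k * k)⁻¹ (k ^ m) :=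
    (((Commute.refl k).mul_left (Commute.refl k)).pow_right m).inv_left
  have e2 : (k * k)⁻¹ * u * (k * k) = (k * k)⁻¹ * u * ((k * k)⁻¹)⁻¹ := by rw [inv_inv]
  rw [e1 h (hk.pow_right m), hhu, e2, ← e1 _ hkk, hw, (actk.mul actk).inv]
  have e3 : (ν⁻¹ * ν⁻¹)⁻¹ = ν ^ 2 := by group
  rw [e3]

theorem involution_commute {a b z : P} (ha : a * a = 1) (hb : b * b = 1) (hab : ⁅a, b⁆ = z)
    (hz : z * z = 1) : Commute a z ∧ Commute b z := by
  have ha' : a⁻¹ = a := inv_eq_of_mul_eq_one_left ha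
  have hb' : b⁻¹ = b := inv_eq_of_mul_eq_one_left hb
  have hz' : z⁻¹ = z := inv_eq_of_mul_eq_one_left hz
  have h1 : a * z * a⁻¹ = z⁻¹ := by
    rw [← hab, commutatorElement_def]
    calc a * (a * b * a⁻¹ * b⁻¹) * a⁻¹ = (a * a) * b * a⁻¹ * b⁻¹ * a⁻¹ := by group
      _ = b * a * b⁻¹ * a⁻¹ := by rw [ha, ha', hb', one_mul]
      _ = _ := by group
  have h2 : b * z * b⁻¹ = z⁻¹ := by
    rw [← hab, commutatorElement_def]
    calc b * (a * b * a⁻¹ * b⁻¹) * b⁻¹ = b * a * b * a⁻¹ * (b * b)⁻¹ := by group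
      _ = b * a * b⁻¹ * a⁻¹ := by rw [hb, inv_one, mul_one, hb']
      _ = _ := by group
  rw [hz'] at h1 h2
  exact ⟨mul_inv_eq_iff_eq_mul.1 h1, mul_inv_eq_iff_eq_mul.1 h2⟩

end Group

end Cfsg.Agent.SL3Pres
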