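import Mathlib
import Cfsg.Agent.SL3Pres.Derive

/-!
# Short presentations of SL3: the model inside SL(3, F)
-/

set_option autoImplicit false

namespace Cfsg.Agent.SL3Pres

open Matrix
open scoped MatrixGroups commutatorElement

variable {F : Type*} [Field F]

/-- A diagonal element. -/
def dD (a b : Fˣ) : SL(3, F) :=
  ⟨!![(a : F), 0, 0; 0, (b : F), 0; 0, 0, ((a * b)⁻¹ : Fˣ)],
    by
      have h : ((a * b) * (a * b)⁻¹ : Fˣ) = 1 := mul_inv_cancel _
      have h' := congrArg (fun x : Fˣ => (x : F)) h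
      simp only [Units.val_mul, Units.val_one] at h'
      rw [Matrix.det_fin_three]; simpa using h'⟩

/-- The coordinate 3-cycle. -/
def cM : SL(3, F) := ⟨!![0, 0, 1; 1, 0, 0; 0, 1, 0], by simp [Matrix.det_fin_three]⟩

/-- The Weyl element. -/
def wM3 : SL(3, F) := ⟨!![0, 1, 0; -1, 0, 0; 0, 0, 1], by simp [Matrix.det_fin_three]⟩

theorem dD_coe (a b : Fˣ) : (dD a b).1 =
    !![(a : F), 0, 0; 0, (b : F), 0; 0, 0, ((a * b)⁻¹ : Fˣ)] := rfl

theorem cM_coe : (cM : SL(3, F)).1 = !![0, 0, 1; 1, 0, 0; 0, 1, 0] := rfl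

theorem wM3_coe : (wM3 : SL(3, F)).1 = !![0, 1, 0; -1, 0, 0; 0, 0, 1] := rfl

theorem dD_mul (a b a' b' : Fˣ) : dD (a * a') (b * b') = dD a b * dD a' b' := by
  ext i j
  fin_cases i <;> fin_cases j <;> simp [dD_coe, Matrix.mul_apply, Fin.sum_univ_three] <;> ring

theorem dD_one : dD (1 : Fˣ) 1 = 1 := by
  ext i j; fin_cases i <;> fin_cases j <;> simp [dD_coe]

theorem dD_inv (a b : Fˣ) : (dD a b)⁻¹ = dD a⁻¹ b⁻¹ :=
  inv_eq_of_mul_eq_one_left (by rw [← dD_mul, inv_mul_cancel, inv_mul_cancel, dD_one])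

theorem dD_pow (a b : Fˣ) : ∀ n : ℕ, dD a b ^ n = dD (a ^ n) (b ^ n)
  | 0 => by simp [dD_one]
  | n + 1 => by rw [pow_succ, dD_pow a b n, ← dD_mul, pow_succ, pow_succ]

theorem cM_dD (a b : Fˣ) : cM * dD a b * cM⁻¹ = dD (a * b)⁻¹ a := by
  rw [mul_inv_eq_iff_eq_mul]
  ext i j
  fin_cases i <;> fin_cases j <;> simp [dD_coe, cM_coe, Matrix.mul_apply, Fin.sum_univ_three]

theorem tx_coe {i j : Fin 3} (h : i ≠ j) (t : F) :
    (SLMult.tx i j t).1 = 1 + Matrix.single i j t := by rw [SLMult.tx_eq h]; rfl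

theorem dD_conj_tx (a b : Fˣ) (t : F) :
    dD a b * SLMult.tx 0 1 t * (dD a b)⁻¹ = SLMult.tx 0 1 (((a * b⁻¹ : Fˣ) : F) * t) := by
  rw [mul_inv_eq_iff_eq_mul]
  ext i j
  fin_cases i <;> fin_cases j <;>
    simp [Matrix.SpecialLinearGroup.coe_mul, tx_coe, dD_coe, Matrix.mul_apply, Fin.sum_univ_three,
      Matrix.one_apply, Matrix.single] <;> field_simp

theorem cM_conj_tx (i j : Fin 3) (hij : i ≠ j) (t : F) :
    cM * SLMult.tx i j t * cM⁻¹ = SLMult.tx (i + 1) (j + 1) t := by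
  rw [mul_inv_eq_iff_eq_mul]
  ext a b
  fin_cases i <;> fin_cases j <;> first
    | exact absurd rfl hij
    | (fin_cases a <;> fin_cases b <;>
        simp [Matrix.SpecialLinearGroup.coe_mul, tx_coe, cM_coe, Matrix.mul_apply,
          Fin.sum_univ_three, Matrix.one_apply, Matrix.single])

theorem wM3_conj_tx (t : F) :
    wM3 * SLMult.tx 0 1 (-1 * t) * wM3⁻¹ = SLMult.tx 1 0 t := by
  rw [mul_inv_eq_iff_eq_mul]
  ext a b
  fin_cases a <;> fin_cases b <;>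
    simp [Matrix.SpecialLinearGroup.coe_mul, tx_coe, wM3_coe, Matrix.mul_apply,
      Fin.sum_univ_three, Matrix.one_apply, Matrix.single]

theorem wM3_eq : (wM3 : SL(3, F)) =
    SLMult.tx 0 1 1 * (wM3 * SLMult.tx 0 1 1 * wM3⁻¹) * SLMult.tx 0 1 1 := by
  have h : wM3 * SLMult.tx 0 1 (1 : F) * wM3⁻¹ = SLMult.tx 1 0 (-1) := by
    rw [← wM3_conj_tx]; norm_num
  rw [h]
  ext a b
  fin_cases a <;> fin_cases b <;>
    simp [Matrix.SpecialLinearGroup.coe_mul, tx_coe, wM3_coe, Matrix.mul_apply,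
      Fin.sum_univ_three, Matrix.one_apply, Matrix.single]

/-- The model satisfies the data. -/
theorem model_sys [Fintype F] {ν : Fˣ} (hν : orderOf ν = Fintype.card F - 1) {e : ℕ}
    (he : (ν : F) ^ e = -1) :
    Sys (fun t : F => SLMult.tx (ι := Fin 3) 0 1 t) (dD ν ν⁻¹) wM3 cM ν e := by
  have hk : cM * dD ν ν⁻¹ * cM⁻¹ = dD (1 : Fˣ) ν := by rw [cM_dD, mul_inv_cancel, inv_one]
  have hh' : dD ν ν⁻¹ ^ e = dD (-1 : Fˣ) (-1) := by
    have e1 : ν ^ e = (-1 : Fˣ) := Units.ext (by simpa using he)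
    rw [dD_pow, inv_pow, e1]; simp
  have hk' : dD (1 : Fˣ) ν ^ e = dD (1 : Fˣ) (-1) := by
    have e1 : ν ^ e = (-1 : Fˣ) := Units.ext (by simpa using he)
    rw [dD_pow, one_pow, e1]
  refine ⟨⟨?_, ?_, ?_, ?_, ?_, ?_⟩, he, fun a ha => SL2Pres.exists_pow_eq hν ha,
    SLMult.tx_zero 0 1, fun a b => SLMult.tx_add (by decide) a b, fun t => ?_, fun t => ?_⟩
  · rw [hk]
    show _ = _
    rw [← dD_mul, ← dD_mul, mul_comm ν, mul_comm ν⁻¹]
  · rw [dD_inv, inv_inv, mul_inv_eq_iff_eq_mul]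
    ext i j
    fin_cases i <;> fin_cases j <;> simp [dD_coe, wM3_coe, Matrix.mul_apply, Fin.sum_univ_three]
  · rw [hh']
    ext i j
    fin_cases i <;> fin_cases j <;> simp [dD_coe, wM3_coe, Matrix.mul_apply, Fin.sum_univ_three]
  · rw [hk, hk', mul_inv_eq_iff_eq_mul, mul_assoc, eq_inv_mul_iff_mul_eq]
    ext i j
    fin_cases i <;> fin_cases j <;>
      simp [dD_coe, cM_coe, wM3_coe, Matrix.mul_apply, Fin.sum_univ_three]
  · rw [pow_succ, pow_two]
    ext i j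
    fin_cases i <;> fin_cases j <;> simp [cM_coe, Matrix.mul_apply, Fin.sum_univ_three]
  · rw [hk, cM_dD, ← dD_mul, ← dD_mul]
    simp [dD_one]
  · rw [dD_conj_tx, inv_inv, pow_two]
  · rw [hk, dD_conj_tx, one_mul]

theorem model_roots (i j : Fin 3) (hij : i ≠ j) (t : F) :
    root (fun s : F => SLMult.tx (ι := Fin 3) 0 1 s) (wM3 : SL(3, F)) cM i j t = SLMult.tx i j t := by
  set φ := fun s : F => SLMult.tx (ι := Fin 3) 0 1 s with hφ
  have e10 : ∀ t : F, r10 φ (wM3 : SL(3, F)) t = SLMult.tx 1 0 t := wM3_conj_tx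
  have up : ∀ (i j i' j' : Fin 3), i ≠ j → i + 1 = i' → j + 1 = j' → ∀ t : F,
      (cM : SL(3, F)) * SLMult.tx i j t * cM⁻¹ = SLMult.tx i' j' t := by
    intro i j i' j' h hi hj t
    rw [cM_conj_tx i j h, hi, hj]
  have down : ∀ (i j i' j' : Fin 3), i' ≠ j' → i' + 1 = i → j' + 1 = j → ∀ t : F,
      (cM : SL(3, F))⁻¹ * SLMult.tx i j t * cM⁻¹⁻¹ = SLMult.tx i' j' t := by
    intro i j i' j' h hi hj t
    subst hi hj
    rw [← cM_conj_tx i' j' h]; group
  have e12 : r12 φ (cM : SL(3, F)) t = SLMult.tx 1 2 t := by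
    rw [r12, one_mul, hφ]; exact up 0 1 1 2 (by decide) rfl rfl t
  have e20 : r20 φ (cM : SL(3, F)) t = SLMult.tx 2 0 t := by
    rw [r20, one_mul, hφ]; exact down 0 1 2 0 (by decide) rfl rfl t
  have e21 : r21 φ (wM3 : SL(3, F)) cM t = SLMult.tx 2 1 t := by
    rw [r21, one_mul, e10]; exact up 1 0 2 1 (by decide) rfl rfl t
  have e02 : r02 φ (wM3 : SL(3, F)) cM t = SLMult.tx 0 2 t := by
    rw [r02, one_mul, e10]; exact down 1 0 0 2 (by decide) rfl rfl t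
  fin_cases i <;> fin_cases j
  · exact absurd rfl hij
  · simp only [root, hφ]; rfl
  · simpa [root] using e02
  · simpa [root] using e10 t
  · exact absurd rfl hij
  · simpa [root] using e12
  · simpa [root] using e20
  · simpa [root] using e21
  · exact absurd rfl hij

end Cfsg.Agent.SL3Pres
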