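import Mathlib
import Cfsg.Agent.SL3Pres.Model

/-!
# Short presentations of SL3
-/

set_option autoImplicit false

namespace Cfsg.Agent.SL3Pres

open Polynomial Cfsg.Agent.SL2Pres
open scoped MatrixGroups commutatorElement

universe v

/-- The relators common to all fields. -/
def baseRels {G : Type*} [Group G] (p e : ℕ) (u h w c : G) : List G :=
  [u ^ p,
   h * u * h⁻¹ * (((c * h * c⁻¹) * (c * h * c⁻¹))⁻¹ * u * ((c * h * c⁻¹) * (c * h * c⁻¹)))⁻¹,
   h * (c * h * c⁻¹) * h⁻¹ * (c * h * c⁻¹)⁻¹,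
   w * h * w⁻¹ * h,
   w * w * (h ^ e)⁻¹,
   w * c * w⁻¹ * (c⁻¹ * (c * h * c⁻¹) ^ e)⁻¹,
   c ^ 3,
   h * (c * h * c⁻¹) * (c * (c * h * c⁻¹) * c⁻¹),
   u * (w * u * w⁻¹) * u * w⁻¹,
   ⁅c⁻¹ * (w * u⁻¹ * w⁻¹) * c⁻¹⁻¹, c * (w * u⁻¹ * w⁻¹) * c⁻¹⁆ * u⁻¹]

/-- The further relators for a field with more or fewer than four elements. -/
noncomputable def genRels {G : Type*} [Group G] (p : ℕ) (g f : (ZMod p)[X]) (u h w c : G) :
    List G :=
  [pword ((c * h * c⁻¹) ^ 3) u f,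
   (c * h * c⁻¹) * u * (c * h * c⁻¹)⁻¹ * (pword ((c * h * c⁻¹) ^ 3) u g)⁻¹,
   ⁅u, c⁻¹ * (w * u⁻¹ * w⁻¹) * c⁻¹⁻¹⁆,
   ⁅u, c * (w * u⁻¹ * w⁻¹) * c⁻¹⁆]

/-- The further relators for the field of four elements. -/
noncomputable def fourRels {G : Type*} [Group G] (p : ℕ) (f : (ZMod p)[X]) (u h w c : G) :
    List G :=
  [pword (c * h * c⁻¹) u f,
   ⁅u, (c * h * c⁻¹) * u * (c * h * c⁻¹)⁻¹⁆,
   ⁅c⁻¹ * (w * u⁻¹ * w⁻¹) * c⁻¹⁻¹,
      (c * h * c⁻¹) * (c * (w * u⁻¹ * w⁻¹) * c⁻¹) * (c * h * c⁻¹)⁻¹⁆ *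
    ((c * h * c⁻¹) * (c * h * c⁻¹) * u * ((c * h * c⁻¹) * (c * h * c⁻¹))⁻¹)⁻¹]

theorem map_baseRels {G H : Type*} [Group G] [Group H] (φ : G →* H) (p e : ℕ) (u h w c : G) :
    (baseRels p e u h w c).map φ = baseRels p e (φ u) (φ h) (φ w) (φ c) := by
  simp [baseRels, commutatorElement_def]

theorem map_genRels {G H : Type*} [Group G] [Group H] (φ : G →* H) (p : ℕ) (g f : (ZMod p)[X])
    (u h w c : G) : (genRels p g f u h w c).map φ = genRels p g f (φ u) (φ h) (φ w) (φ c) := by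
  simp [genRels, commutatorElement_def, map_pword]

theorem map_fourRels {G H : Type*} [Group G] [Group H] (φ : G →* H) (p : ℕ) (f : (ZMod p)[X])
    (u h w c : G) : (fourRels p f u h w c).map φ = fourRels p f (φ u) (φ h) (φ w) (φ c) := by
  simp [fourRels, commutatorElement_def, map_pword]

/-- The Steinberg relations and the remaining facts in any group. -/
def Good {P : Type v} [Group P] {F : Type*} [Field F] (u h w c : P) (ν : Fˣ) (e : ℕ) : Prop :=
  ∃ φ : F → P, φ 1 = u ∧ Sys φ h w c ν e ∧ (∀ a b, Commute (φ a) (r02 φ w c b)) ∧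
    (∀ a b, Commute (φ a) (r21 φ w c b)) ∧ (∀ a b, ⁅r02 φ w c a, r21 φ w c b⁆ = φ (a * b)) ∧
    w = φ 1 * (w * φ 1 * w⁻¹) * φ 1

/-- A list of relators giving `Good` defines `SL(3, F)`. -/
theorem pres_iso {F : Type*} [Field F] [Fintype F] {ν : Fˣ} {e : ℕ}
    (hν : orderOf ν = Fintype.card F - 1) (he : (ν : F) ^ e = -1)
    (n : ℕ)
    (L : List (FreeGroup (Fin 4))) (hn : L.length ≤ n)
    (hmodel : ∀ r ∈ L, FreeGroup.lift
      ![SLMult.tx 0 1 1, dD ν ν⁻¹, (wM3 : SL(3, F)), cM] r = 1)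
    (hgood : ∀ (P : Type) [Group P] (ψ : FreeGroup (Fin 4) →* P),
      (∀ r ∈ L, ψ r = 1) → Good (ψ (FreeGroup.of 0)) (ψ (FreeGroup.of 1)) (ψ (FreeGroup.of 2))
        (ψ (FreeGroup.of 3)) ν e) :
    ∃ rels : Finset (FreeGroup (Fin 4)), rels.card ≤ n ∧
      Nonempty (PresentedGroup (↑rels : Set (FreeGroup (Fin 4))) ≃* SL(3, F)) := by
  classical
  refine ⟨L.toFinset, (List.toFinset_card_le L).trans hn, ?_⟩
  let Q := PresentedGroup (↑L.toFinset : Set (FreeGroup (Fin 4)))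
  obtain ⟨φ, h1, T, hC1, hC2, hK, hw⟩ := hgood Q (PresentedGroup.mk _)
    (fun r hr => PresentedGroup.one_of_mem (by simpa using hr))
  let χ : Q →* SL(3, F) := PresentedGroup.toGroup
    (f := ![SLMult.tx 0 1 1, dD ν ν⁻¹, (wM3 : SL(3, F)), cM]) (fun r hr => hmodel r (by simpa using hr))
  have hχ : ∀ i, χ (PresentedGroup.mk _ (FreeGroup.of i)) =
      ![SLMult.tx 0 1 1, dD ν ν⁻¹, (wM3 : SL(3, F)), cM] i := fun i => PresentedGroup.toGroup.of _
  set hq : Q := PresentedGroup.mk _ (FreeGroup.of 1)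
  set wq : Q := PresentedGroup.mk _ (FreeGroup.of 2)
  set cq : Q := PresentedGroup.mk _ (FreeGroup.of 3)
  have hgen : Subgroup.closure ({φ 1, hq, wq, cq} : Set Q) = ⊤ := by
    rw [eq_top_iff, ← PresentedGroup.closure_range_of (rels := (↑L.toFinset : Set (FreeGroup (Fin 4)))),
      h1]
    refine Subgroup.closure_mono ?_
    rintro _ ⟨i, rfl⟩
    fin_cases i <;> simp [hq, wq, cq, PresentedGroup.of]
  obtain ⟨f, hfs, hf⟩ := T.exists_hom hC1 hC2 hK hw hgen
  have hM := model_sys hν he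
  have hh : χ hq = dD ν ν⁻¹ := hχ 1
  have hw' : χ wq = wM3 := hχ 2
  have hc' : χ cq = cM := hχ 3
  have hu : χ (φ 1) = SLMult.tx 0 1 1 := by rw [h1]; exact hχ 0
  have hphi : ∀ a : F, χ (φ a) = SLMult.tx 0 1 a := by
    intro a
    rcases eq_or_ne a 0 with rfl | ha
    · rw [T.zero, map_one, SLMult.tx_zero]
    obtain ⟨i, rfl⟩ := exists_pow_eq hν ha
    have e1 := (T.actk.inv.pow i) 1
    have e2 := (hM.actk.inv.pow i) 1
    rw [inv_inv, mul_one, Units.val_pow_eq_pow_val] at e1 e2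
    rw [← e1, ← e2]
    simp only [map_mul, map_inv, map_pow, hh, hc', hu]
  have hroot : ∀ (i j : Fin 3), i ≠ j → ∀ a, χ (root φ wq cq i j a) = SLMult.tx i j a := by
    intro i j hij a
    rw [← model_roots i j hij a]
    fin_cases i <;> fin_cases j <;> first
      | exact absurd rfl hij
      | exact hphi a
      | simp [root, r10, r12, r20, r21, r02, hphi, hw', hc']
  have hcomp : χ.comp f = MonoidHom.id _ := by
    obtain ⟨E, hE⟩ := SteinbergSL.exists_equiv (n := 3) (K := F) le_rfl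
    have key : (χ.comp f).comp E.toMonoidHom = E.toMonoidHom := by
      refine PresentedGroup.ext fun x => ?_
      obtain ⟨⟨⟨i, j⟩, hij⟩, a⟩ := x
      simp only [MonoidHom.comp_apply, MulEquiv.coe_toMonoidHom, hE]
      rw [hf i j hij a, hroot i j hij a, SLMult.tx_eq hij]
    ext1 y
    have := DFunLike.congr_fun key (E.symm y)
    simpa using this
  have hinj : Function.Injective f :=
    Function.LeftInverse.injective (g := χ) fun x => DFunLike.congr_fun hcomp x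
  exact ⟨(MulEquiv.ofBijective f ⟨hinj, hfs⟩).symm⟩

variable {F : Type*} [Field F] [Fintype F] {p : ℕ} [Fact p.Prime] [Algebra (ZMod p) F]

theorem tor_of_rels {P : Type v} [Group P] {e : ℕ} {u h w c : P}
    (hr : ∀ r ∈ baseRels p e u h w c, r = 1) :
    Tor h w c e ∧ u ^ p = 1 ∧
      h * u * h⁻¹ = ((c * h * c⁻¹) * (c * h * c⁻¹))⁻¹ * u * ((c * h * c⁻¹) * (c * h * c⁻¹)) ∧
      ⁅c⁻¹ * (w * u⁻¹ * w⁻¹) * c⁻¹⁻¹, c * (w * u⁻¹ * w⁻¹) * c⁻¹⁆ = u ∧
      w = u * (w * u * w⁻¹) * u := by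
  simp only [baseRels, List.forall_mem_cons, List.not_mem_nil, IsEmpty.forall_iff, implies_true,
    and_true] at hr
  obtain ⟨h1, h3, h4, h5, h6, h7, h8, h9, h13, hK⟩ := hr
  exact ⟨⟨commutatorElement_eq_one_iff_commute.1 (by rw [commutatorElement_def]; exact h4),
      eq_inv_of_mul_eq_one_left h5, mul_inv_eq_one.1 h6, mul_inv_eq_one.1 h7, h8, h9⟩, h1,
    mul_inv_eq_one.1 h3, mul_inv_eq_one.1 hK, (mul_inv_eq_one.1 h13).symm⟩

theorem seed10 {P : Type*} [Group P] {φ : F → P} {h w c : P} {ν : Fˣ} {e : ℕ}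
    (T : Sys φ h w c ν e) : w * (φ 1)⁻¹ * w⁻¹ = r10 φ w (1 : F) := by
  have h1 : (φ 1)⁻¹ = φ (-1 * 1) := by
    rw [neg_one_mul]
    exact inv_eq_of_mul_eq_one_right (by rw [← T.add, add_neg_cancel, T.zero])
  rw [h1, r10]

theorem seed02 {P : Type*} [Group P] {φ : F → P} {h w c : P} {ν : Fˣ} {e : ℕ}
    (T : Sys φ h w c ν e) :
    c⁻¹ * (w * (φ 1)⁻¹ * w⁻¹) * c⁻¹⁻¹ = r02 φ w c (1 : F) := by
  rw [seed10 T, r02, mul_one]

theorem seed21 {P : Type*} [Group P] {φ : F → P} {h w c : P} {ν : Fˣ} {e : ℕ}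
    (T : Sys φ h w c ν e) :
    c * (w * (φ 1)⁻¹ * w⁻¹) * c⁻¹ = r21 φ w c (1 : F) := by
  rw [seed10 T, r21, mul_one]

theorem good_gen {P : Type v} [Group P] {ν : Fˣ} {e : ℕ} (hν : orderOf ν = Fintype.card F - 1)
    (he : (ν : F) ^ e = -1) (h4 : Fintype.card F ≠ 4) (g : (ZMod p)[X])
    (hg : aeval (((ν⁻¹ : Fˣ) : F) ^ 3) g = ((ν⁻¹ : Fˣ) : F)) {u h w c : P}
    (hb : ∀ r ∈ baseRels p e u h w c, r = 1)
    (hg' : ∀ r ∈ genRels p g (minpoly (ZMod p) (((ν⁻¹ : Fˣ) : F) ^ 3)) u h w c, r = 1) :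
    Good u h w c ν e := by
  obtain ⟨T, hp, hhu, hK, hw⟩ := tor_of_rels hb
  simp only [genRels, List.forall_mem_cons, List.not_mem_nil, IsEmpty.forall_iff, implies_true,
    and_true] at hg'
  obtain ⟨hf, hku, h02, h21⟩ := hg'
  rw [commutatorElement_eq_one_iff_commute] at h02 h21
  have hν' : orderOf ν⁻¹ = Fintype.card F - 1 := by rw [orderOf_inv, hν]
  obtain ⟨φ, h1, S⟩ := exists_sys hν he T hhu hp 3
    (fun i j => commute_cj_all _ _ (k_pow_commute T hhu h02 h21 hK) i j)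
    (surjective_cube hν' h4) hf g hg (mul_inv_eq_one.1 hku)
  subst h1
  rw [seed02 S] at h02 hK
  rw [seed21 S] at h21 hK
  have hs := spanBy_one (p := p) (surjective_cube hν h4)
  have hC2 := S.commute21 hs (by rintro d rfl; exact h21)
  exact ⟨φ, rfl, S, S.commute02 hs (by rintro d rfl; exact h02), hC2,
    S.commutator021 hs hC2 (by rintro d rfl; exact hK), hw⟩

theorem good_four {P : Type v} [Group P] {ν : Fˣ} {e : ℕ} (hν : orderOf ν = Fintype.card F - 1)
    (he : (ν : F) ^ e = -1) (h4 : Fintype.card F = 4) (hp2 : p = 2) {u h w c : P}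
    (hb : ∀ r ∈ baseRels p e u h w c, r = 1)
    (hg' : ∀ r ∈ fourRels p (minpoly (ZMod p) ((ν⁻¹ : Fˣ) : F)) u h w c, r = 1) :
    Good u h w c ν e := by
  subst hp2
  have hchar : CharP F 2 := charP_of_injective_algebraMap (algebraMap (ZMod 2) F).injective 2
  obtain ⟨T, hp, hhu, hK, hw⟩ := tor_of_rels hb
  simp only [fourRels, List.forall_mem_cons, List.not_mem_nil, IsEmpty.forall_iff, implies_true,
    and_true] at hg'
  obtain ⟨hf, huk, hK'⟩ := hg'
  rw [commutatorElement_eq_one_iff_commute] at huk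
  set l : F := ((ν⁻¹ : Fˣ) : F) with hl
  have hgen : Function.Surjective ⇑(Polynomial.aeval l : (ZMod 2)[X] →ₐ[ZMod 2] F) := by
    intro b
    rcases eq_or_ne b 0 with rfl | hb0
    · exact ⟨0, map_zero _⟩
    obtain ⟨i, rfl⟩ := exists_pow_eq (ν := ν⁻¹) (by rw [orderOf_inv, hν]) hb0
    exact ⟨X ^ i, by simp [hl]⟩
  have hint : IsIntegral (ZMod 2) l := Algebra.IsIntegral.isIntegral l
  have hdeg : (minpoly (ZMod 2) l).natDegree ≤ 2 := by
    refine (minpoly.natDegree_le l).trans ?_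
    have hc := Module.card_eq_pow_finrank (K := ZMod 2) (V := F)
    rw [ZMod.card, h4] at hc
    exact (Nat.pow_le_pow_iff_right (by norm_num)).1 (hc.symm.le.trans (by norm_num))
  obtain ⟨φ, h1, S⟩ := exists_sys hν he T hhu hp 1
    (by
      rw [pow_one]
      exact commute_all_of_pair hp (by simpa [cj] using huk) _ (minpoly.monic hint) hdeg
        (minpoly.natDegree_pos hint) hf)
    (by rw [pow_one]; exact hgen) (by rw [pow_one, pow_one]; exact hf) X (by simp)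
    (by simp [pword, List.range_succ, Polynomial.coeff_X, ZMod.val_one])
  subst h1
  have hK2 := mul_inv_eq_one.1 hK'
  rw [seed02 S] at hK hK2
  rw [seed21 S] at hK hK2
  have a2 := (S.actk.mul S.actk) 1
  have a3 := S.hk21 1
  rw [mul_one] at a2 a3
  rw [a2, a3] at hK2
  have hr : ((ν⁻¹ * ν⁻¹ : Fˣ) : F) = (((ν ^ 2)⁻¹ : Fˣ) : F) := by
    rw [pow_two, mul_inv_rev]
  rw [hr] at hK2
  set r : F := (((ν ^ 2)⁻¹ : Fˣ) : F) with hrdef
  set r' : F := ((ν ^ 2 : Fˣ) : F) with hr'def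
  have hne : (ν ^ 2 : Fˣ) ≠ 1 := by
    intro h0
    have := Nat.le_of_dvd (by norm_num) (hν ▸ orderOf_dvd_of_pow_eq_one h0)
    omega
  have hr1 : r ≠ 1 := by
    intro h0
    exact hne (inv_eq_one.1 (Units.ext h0))
  have hr'1 : r' ≠ 1 := fun h0 => hne (Units.ext h0)
  have sq : ∀ a : F, φ a * φ a = 1 := fun a => by rw [← S.add, CharTwo.add_self_eq_zero, S.zero]
  have sq02 : ∀ a : F, r02 φ w c a * r02 φ w c a = 1 := fun a => by
    rw [← S.add02, CharTwo.add_self_eq_zero, S.zero02]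
  have sq21 : ∀ a : F, r21 φ w c a * r21 φ w c a = 1 := fun a => by
    rw [← S.add21, CharTwo.add_self_eq_zero, S.zero21]
  obtain ⟨c1, d1⟩ := involution_commute (sq02 1) (sq21 1) hK (sq 1)
  obtain ⟨c2, d2⟩ := involution_commute (sq02 1) (sq21 r) hK2 (sq r)
  have ai := (S.actk.mul S.actk).inv
  have bi := (S.hk02.mul S.hk02).inv
  have di := (S.hk21.mul S.hk21).inv
  have scale : (ν⁻¹ * ν⁻¹)⁻¹ = (ν ^ 2 : Fˣ) := by group
  have scale2 : ((ν ^ 2)⁻¹ * (ν ^ 2)⁻¹)⁻¹ = (ν ^ 2 * ν ^ 2 : Fˣ) := by group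
  have hrr : r' * r = 1 := by rw [hr'def, hrdef, ← Units.val_mul, mul_inv_cancel, Units.val_one]
  have q1 : Commute (φ 1) (r02 φ w c r) := by
    have := commute_conj (z := ((c * h * c⁻¹) * (c * h * c⁻¹))⁻¹) c2.symm
    rw [ai, bi, scale, ← hr'def, hrr, mul_one, mul_inv_rev, ← pow_two] at this
    rwa [hrdef, ← inv_pow, pow_two, pow_two]
      at *
  have q2 : Commute (φ 1) (r21 φ w c r') := by
    have := commute_conj (z := ((c * h * c⁻¹) * (c * h * c⁻¹))⁻¹) d2.symm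
    rw [ai, di, scale, scale2, ← hr'def, hrr, Units.val_mul, ← hr'def, mul_assoc, hrr, mul_one]
      at this
    exact this
  have hC2 := S.commute21 (spanBy_four h4 ν (r := r') (Units.ne_zero _) hr'1) (by
    rintro d (rfl | hd)
    · exact d1.symm
    · rw [Set.mem_singleton_iff.1 hd]; exact q2)
  refine ⟨φ, rfl, S, S.commute02 (spanBy_four h4 ν (r := r) (Units.ne_zero _) hr1) ?_, hC2,
    S.commutator021 (spanBy_four h4 ν (r := r) (Units.ne_zero _) hr1) hC2 ?_, hw⟩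
  · rintro d (rfl | hd)
    · exact c1.symm
    · rw [Set.mem_singleton_iff.1 hd]; exact q1
  · rintro d (rfl | hd)
    · exact hK
    · rw [Set.mem_singleton_iff.1 hd]; exact hK2

theorem model_base {ν : Fˣ} (hν : orderOf ν = Fintype.card F - 1) {e : ℕ}
    (he : (ν : F) ^ e = -1) :
    ∀ r ∈ baseRels p e (SLMult.tx 0 1 1) (dD ν ν⁻¹) (wM3 : SL(3, F)) cM, r = 1 := by
  have S := model_sys hν he
  have T := S.tor
  have hchar : CharP F p := charP_of_injective_algebraMap (algebraMap (ZMod p) F).injective p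
  simp only [baseRels, List.forall_mem_cons, List.not_mem_nil, IsEmpty.forall_iff, implies_true,
    and_true]
  have hkk := (S.actk.mul S.actk).inv 1
  rw [inv_inv] at hkk
  refine ⟨?_, ?_, ?_, ?_, ?_, ?_, T.cc, T.hkk, ?_, ?_⟩
  · rw [SLMult.tx_pow (by decide), mul_one, CharP.cast_eq_zero F p, SLMult.tx_zero]
  · refine mul_inv_eq_one.2 ((S.acth 1).trans (Eq.trans ?_ hkk.symm))
    have e1 : (ν⁻¹ * ν⁻¹)⁻¹ = ν ^ 2 := by group
    rw [e1]
  · rw [← commutatorElement_def]; exact commutatorElement_eq_one_iff_commute.2 T.hk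
  · rw [T.wh, inv_mul_cancel]
  · rw [T.ww, mul_inv_cancel]
  · rw [T.wc, mul_inv_cancel]
  · exact mul_inv_eq_one.2 wM3_eq.symm
  · have a := seed02 S
    have b := seed21 S
    refine mul_inv_eq_one.2 ?_
    rw [a, b]
    have m1 := model_roots (F := F) 0 2 (by decide) 1
    have m2 := model_roots (F := F) 2 1 (by decide) 1
    simp only [root] at m1 m2
    show ⁅r02 _ wM3 cM 1, r21 _ wM3 cM 1⁆ = _
    simp only [Matrix.cons_val_zero, Matrix.cons_val_one, Matrix.cons_val] at m1 m2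
    rw [m1, m2, SLMult.tx_rel (by decide) (by decide) (by decide), mul_one]

theorem model_pword {ν : Fˣ} (hν : orderOf ν = Fintype.card F - 1) {e : ℕ}
    (he : (ν : F) ^ e = -1) (m : ℕ) (g : (ZMod p)[X]) :
    pword ((cM * dD ν ν⁻¹ * cM⁻¹) ^ m) (SLMult.tx (ι := Fin 3) 0 1 (1 : F)) g =
      SLMult.tx 0 1 (aeval (((ν⁻¹ : Fˣ) : F) ^ m) g) := by
  have S := model_sys hν he
  exact pword_of_param (fun t : F => SLMult.tx (ι := Fin 3) 0 1 t) (SLMult.tx_zero 0 1)
    (fun a b => SLMult.tx_add (by decide) a b)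
    (fun b => by rw [(S.actk.pow m) b, Units.val_pow_eq_pow_val]) g

theorem model_gen {ν : Fˣ} (hν : orderOf ν = Fintype.card F - 1) {e : ℕ}
    (he : (ν : F) ^ e = -1) (g : (ZMod p)[X])
    (hg : aeval (((ν⁻¹ : Fˣ) : F) ^ 3) g = ((ν⁻¹ : Fˣ) : F)) :
    ∀ r ∈ genRels p g (minpoly (ZMod p) (((ν⁻¹ : Fˣ) : F) ^ 3)) (SLMult.tx 0 1 1) (dD ν ν⁻¹)
      (wM3 : SL(3, F)) cM, r = 1 := by
  have S := model_sys hν he
  simp only [genRels, List.forall_mem_cons, List.not_mem_nil, IsEmpty.forall_iff, implies_true,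
    and_true, model_pword hν he, minpoly.aeval, SLMult.tx_zero, hg, true_and,
    commutatorElement_eq_one_iff_commute]
  refine ⟨mul_inv_eq_one.2 ((S.actk 1).trans (by simp)), ?_, ?_⟩
  · rw [seed02 S]
    have m := model_roots (F := F) 0 2 (by decide) 1
    simp only [root, Matrix.cons_val_zero, Matrix.cons_val_one, Matrix.cons_val] at m
    rw [m]
    exact SLMult.tx_comm (by decide) (by decide) (by decide) (by decide) _ _
  · rw [seed21 S]
    have m := model_roots (F := F) 2 1 (by decide) 1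
    simp only [root, Matrix.cons_val_zero, Matrix.cons_val_one, Matrix.cons_val] at m
    rw [m]
    exact SLMult.tx_comm (by decide) (by decide) (by decide) (by decide) _ _

theorem model_four {ν : Fˣ} (hν : orderOf ν = Fintype.card F - 1) {e : ℕ}
    (he : (ν : F) ^ e = -1) :
    ∀ r ∈ fourRels p (minpoly (ZMod p) ((ν⁻¹ : Fˣ) : F)) (SLMult.tx 0 1 1) (dD ν ν⁻¹)
      (wM3 : SL(3, F)) cM, r = 1 := by
  have S := model_sys hν he
  have hp := model_pword (p := p) hν he 1 (minpoly (ZMod p) ((ν⁻¹ : Fˣ) : F))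
  rw [pow_one, pow_one, minpoly.aeval, SLMult.tx_zero] at hp
  simp only [fourRels, List.forall_mem_cons, List.not_mem_nil, IsEmpty.forall_iff, implies_true,
    and_true, hp, true_and, commutatorElement_eq_one_iff_commute]
  have hk := S.actk 1
  refine ⟨?_, mul_inv_eq_one.2 ?_⟩
  · rw [hk]
    show _ = _
    rw [← SLMult.tx_add (by decide), ← SLMult.tx_add (by decide), add_comm]
  · rw [seed02 S, seed21 S, S.hk21 1, (S.actk.mul S.actk) 1]
    have m1 := model_roots (F := F) 0 2 (by decide) 1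
    have m2 := fun t => model_roots (F := F) 2 1 (by decide) t
    simp only [root, Matrix.cons_val_zero, Matrix.cons_val_one, Matrix.cons_val] at m1 m2
    rw [m1, m2, SLMult.tx_rel (by decide) (by decide) (by decide), one_mul, pow_two, mul_inv_rev]

theorem exists_presentation {F : Type*} [Field F] [Fintype F] :
    ∃ rels : Finset (FreeGroup (Fin 4)), rels.card ≤ 14 ∧
      Nonempty (PresentedGroup (↑rels : Set (FreeGroup (Fin 4))) ≃* SL(3, F)) := by
  classical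
  obtain ⟨p, hchar⟩ := CharP.exists F
  have : Fact p.Prime := ⟨CharP.char_is_prime F p⟩
  let alg : Algebra (ZMod p) F := ZMod.algebra F p
  obtain ⟨ν, hν⟩ := exists_gen_unit F
  obtain ⟨e, he⟩ := exists_sign ν hν
  let u₀ := FreeGroup.of (0 : Fin 4)
  let h₀ := FreeGroup.of (1 : Fin 4)
  let w₀ := FreeGroup.of (2 : Fin 4)
  let c₀ := FreeGroup.of (3 : Fin 4)
  let ρ := FreeGroup.lift ![SLMult.tx 0 1 (1 : F), dD ν ν⁻¹, (wM3 : SL(3, F)), cM]
  have e0 : ρ u₀ = SLMult.tx 0 1 (1 : F) := FreeGroup.lift_apply_of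
  have e1 : ρ h₀ = dD ν ν⁻¹ := FreeGroup.lift_apply_of
  have e2 : ρ w₀ = wM3 := FreeGroup.lift_apply_of
  have e3 : ρ c₀ = cM := FreeGroup.lift_apply_of
  by_cases h4 : Fintype.card F = 4
  · have hp2 : p = 2 := by
      obtain ⟨n, hpp, hn⟩ := FiniteField.card F p
      rw [h4] at hn
      have : p ∣ 2 ^ 2 := by rw [show (2 : ℕ) ^ 2 = 4 from rfl, hn]; exact dvd_pow_self p n.ne_zero
      exact (Nat.prime_dvd_prime_iff_eq hpp Nat.prime_two).1 (hpp.dvd_of_dvd_pow this)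
    refine pres_iso hν he 14 (baseRels p e u₀ h₀ w₀ c₀ ++
      fourRels p (minpoly (ZMod p) ((ν⁻¹ : Fˣ) : F)) u₀ h₀ w₀ c₀) (by simp [baseRels, fourRels])
      (fun r hr => ?_) (fun P _ ψ hψ => ?_)
    · have hm : ρ r ∈ (baseRels p e u₀ h₀ w₀ c₀ ++
        fourRels p (minpoly (ZMod p) ((ν⁻¹ : Fˣ) : F)) u₀ h₀ w₀ c₀).map ρ :=
        List.mem_map_of_mem hr
      rw [List.map_append, map_baseRels, map_fourRels, List.mem_append] at hm
      rw [e0, e1, e2, e3] at hm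
      rcases hm with hm | hm
      · exact model_base hν he _ hm
      · exact model_four hν he _ hm
    · refine good_four hν he h4 hp2 ?_ ?_
      · rw [← map_baseRels]
        intro r hr
        obtain ⟨r', hr', rfl⟩ := List.mem_map.1 hr
        exact hψ r' (List.mem_append_left _ hr')
      · rw [← map_fourRels]
        intro r hr
        obtain ⟨r', hr', rfl⟩ := List.mem_map.1 hr
        exact hψ r' (List.mem_append_right _ hr')
  · have hν' : orderOf ν⁻¹ = Fintype.card F - 1 := by rw [orderOf_inv, hν]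
    obtain ⟨g, hg⟩ := surjective_cube (p := p) hν' h4 ((ν⁻¹ : Fˣ) : F)
    refine pres_iso hν he 14 (baseRels p e u₀ h₀ w₀ c₀ ++
      genRels p g (minpoly (ZMod p) (((ν⁻¹ : Fˣ) : F) ^ 3)) u₀ h₀ w₀ c₀)
      (by simp [baseRels, genRels]) (fun r hr => ?_) (fun P _ ψ hψ => ?_)
    · have hm : ρ r ∈ (baseRels p e u₀ h₀ w₀ c₀ ++
        genRels p g (minpoly (ZMod p) (((ν⁻¹ : Fˣ) : F) ^ 3)) u₀ h₀ w₀ c₀).map ρ :=
        List.mem_map_of_mem hr
      rw [List.map_append, map_baseRels, map_genRels, List.mem_append] at hm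
      rw [e0, e1, e2, e3] at hm
      rcases hm with hm | hm
      · exact model_base hν he _ hm
      · exact model_gen hν he g hg _ hm
    · refine good_gen hν he h4 g hg ?_ ?_
      · rw [← map_baseRels]
        intro r hr
        obtain ⟨r', hr', rfl⟩ := List.mem_map.1 hr
        exact hψ r' (List.mem_append_left _ hr')
      · rw [← map_genRels]
        intro r hr
        obtain ⟨r', hr', rfl⟩ := List.mem_map.1 hr
        exact hψ r' (List.mem_append_right _ hr')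

end Cfsg.Agent.SL3Pres
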